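import Groth.Agent.AbVar.K527.PushV
import Groth.Agent.AbSch.K450.VanBC
import Groth.Agent.S2390
import Groth.Agent.S2355
import Groth.Agent.AbSch.K451.TopInv

/-!
# Direct images of relatively ample modules on abelian schemes
-/

set_option autoImplicit false
universe u

open CategoryTheory CategoryTheory.Limits MonoidalCategory CartesianMonoidalCategory MonObj AlgebraicGeometry
open TopologicalSpace

namespace K645.Conc

open Groth.Agent

section Van

variable {S : Scheme.{u}} [IsLocallyNoetherian S] {A : Over S} [GrpObj A] {g : ℕ}

/-- The higher direct images of a relatively ample module on an abelian scheme vanish, and its direct image is finite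
locally free. -/
theorem isZero_Rpush (hA : AgPol.IsAbSch A g) {L : A.left.Modules} (hL : PicF.IsInvertible L)
    (hamp : RelAmple.IsRelAmple A.hom L) :
    (∀ i : ℕ, 0 < i → IsZero ((Coh.Rpush A.hom i).obj L)) ∧ FlatMod.IsFinLocFree ((Coh.push A.hom).obj L) := by
  have := hA.smooth
  have := hA.proper
  have := hA.geomConnected
  have := Dcoh.DerSch.hasInjectiveResolutions A.left
  have hc : Coh.IsCoh L := Groth.Agent.S2329.isCoh_of_isInvertible hL
  have hfl : FlatMod.IsFlatOver A.hom L := Ega3B.NearFibre.isFlatOver_of_isInvertible A.hom hL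
  have h1 : ∀ i : ℕ, 0 < i → IsZero ((Coh.Rpush A.hom i).obj L) := fun i hi =>
    K527.PushV.isZero_Rpush A.hom L hc hfl i fun s => K450.VanBC.subsingleton_fiberH A hL hamp s i hi
  refine ⟨h1, fun s => ?_⟩
  obtain ⟨U, hU, h⟩ := (Groth.Agent.S2390.result A.hom L hc hfl h1).2 s
  exact ⟨U, _, hU, h⟩

/-- The top direct image of the structure sheaf of an abelian scheme is finite locally free (of rank one). -/
theorem isFinLocFree_topO (hA : AgPol.IsAbSch A g) :
    FlatMod.IsFinLocFree ((Coh.Rpush A.hom g).obj (Coh.structureModule A.left)) :=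
  Ega2.QCohLocal.isFinLocFree_of_rank
    (Ega2.QCohLocal.isFinLocFreeOfRank_one_iff.2 (K451.TopInv.isInvertible_topO A hA))

end Van

/-- The inverse image of a relatively ample module under a finite homomorphism is relatively ample. -/
theorem isRelAmple_pullback {S : Scheme.{u}} {A B : Over S} [QuasiCompact B.hom] (lam : A ⟶ B) [IsAffineHom lam.left]
    {M : B.left.Modules} (hM : RelAmple.IsRelAmple B.hom M) :
    RelAmple.IsRelAmple A.hom ((Scheme.Modules.pullback lam.left).obj M) := by
  have h : Mor2.IsQuasiAffine lam.left := ⟨inferInstance, fun V hV => by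
    have := hV.preimage lam.left
    have : IsAffine (lam.left ⁻¹ᵁ V : Scheme.{u}) := this
    infer_instance⟩
  have h1 := Groth.Agent.S2355.result B.hom lam.left h M hM
  rwa [Over.w lam] at h1

end K645.Conc
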